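import Cfsg.Agent.Spor.Suz22880.D0

set_option autoImplicit false
set_option maxRecDepth 100000000
set_option Elab.async false

namespace Cfsg.Agent.Spor.Suz22880

theorem ok0 : Net.okb 15 n0 = true := by decide +kernel

theorem ok1 : Net.okb 15 n1 = true := by decide +kernel

theorem ok2 : Net.okb 15 n2 = true := by decide +kernel

theorem ok3 : Net.okb 15 n3 = true := by decide +kernel

theorem ok4 : Net.okb 15 n4 = true := by decide +kernel

theorem ok5 : Net.okb 15 n5 = true := by decide +kernel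

theorem ok6 : Net.okb 15 n6 = true := by decide +kernel

theorem ok7 : Net.okb 15 n7 = true := by decide +kernel

theorem rel0 : T.rel 15 [1, 1] 0 15 = true := by decide +kernel

theorem rel1 : T.rel 15 [2, 2] 0 15 = true := by decide +kernel

theorem rel2 : T.rel 15 [3, 3] 0 15 = true := by decide +kernel

theorem rel3 : T.rel 15 [4, 4] 0 15 = true := by decide +kernel

theorem rel4 : T.rel 15 [5, 5] 0 15 = true := by decide +kernel

theorem rel5 : T.rel 15 [6, 6] 0 15 = true := by decide +kernel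

theorem rel6 : T.rel 15 [7, 7] 0 15 = true := by decide +kernel

theorem rel7 : T.rel 15 [8, 2, 3, 4, 3, 4] 0 15 = true := by decide +kernel

theorem rel8 : T.rel 15 [2, 1, 2, 1, 2, 1, 2, 1, 2, 1] 0 15 = true := by decide +kernel

theorem rel9 : T.rel 15 [3, 1, 3, 1] 0 15 = true := by decide +kernel

theorem rel10 : T.rel 15 [4, 1, 4, 1] 0 15 = true := by decide +kernel

theorem rel11 : T.rel 15 [5, 1, 5, 1] 0 15 = true := by decide +kernel

theorem rel12 : T.rel 15 [6, 1, 6, 1] 0 15 = true := by decide +kernel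

theorem rel13 : T.rel 15 [7, 1, 7, 1] 0 15 = true := by decide +kernel

theorem rel14 : T.rel 15 [3, 2, 3, 2, 3, 2] 0 15 = true := by decide +kernel

theorem rel15 : T.rel 15 [4, 2, 4, 2] 0 15 = true := by decide +kernel

theorem rel16 : T.rel 15 [5, 2, 5, 2] 0 15 = true := by decide +kernel

theorem rel17 : T.rel 15 [6, 2, 6, 2, 6, 2] 0 15 = true := by decide +kernel

theorem rel18 : T.rel 15 [7, 2, 7, 2, 7, 2] 0 15 = true := by decide +kernel

theorem rel19 : T.rel 15 [4, 3, 4, 3, 4, 3, 4, 3, 4, 3, 4, 3, 4, 3, 4, 3] 0 15 = true := by decide +kernel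

theorem rel20 : T.rel 15 [5, 3, 5, 3] 0 15 = true := by decide +kernel

theorem rel21 : T.rel 15 [6, 3, 6, 3] 0 15 = true := by decide +kernel

theorem rel22 : T.rel 15 [7, 3, 7, 3] 0 15 = true := by decide +kernel

theorem rel23 : T.rel 15 [5, 4, 5, 4, 5, 4] 0 15 = true := by decide +kernel

theorem rel24 : T.rel 15 [6, 4, 6, 4] 0 15 = true := by decide +kernel

theorem rel25 : T.rel 15 [7, 4, 7, 4] 0 15 = true := by decide +kernel

theorem rel26 : T.rel 15 [6, 5, 6, 5] 0 15 = true := by decide +kernel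

theorem rel27 : T.rel 15 [7, 5, 7, 5] 0 15 = true := by decide +kernel

theorem rel28 : T.rel 15 [7, 6, 7, 6, 7, 6, 7, 6] 0 15 = true := by decide +kernel

theorem rel29 : T.rel 15 [3, 4, 3, 4, 3, 4, 3, 4, 1] 0 15 = true := by decide +kernel

theorem rel30 : T.rel 15 [6, 7, 6, 7, 1] 0 15 = true := by decide +kernel

theorem rel31 : T.rel 15 [6, 3, 2, 1, 6, 3, 2, 1, 6, 3, 2, 1, 6, 3, 2, 1, 6, 3, 2, 1] 0 15 = true := by decide +kernel

theorem rel32 : T.rel 15 [7, 6, 2, 7, 6, 2, 7, 6, 2, 7, 6, 2, 7, 6, 2] 0 15 = true := by decide +kernel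

theorem rel33 : T.rel 15 [5, 8, 8, 8, 8, 8, 5, 8, 8, 8, 8, 8, 5, 8, 8, 8, 8, 8] 0 15 = true := by decide +kernel

theorem hcov : T.treeCov (ones 22880) L 1 = true := by decide +kernel

theorem hg : lall (fun z => band (memL L z) (band (sub (ones 22880) (T.let z).cl) (T.closed (ones 22880) z))) gs = true := by decide +kernel

theorem hivk : ivOk (2 * 7) EX IV = true := by decide +kernel

theorem hrt : RT.ok (2 * 7) EX RL = true := by decide +kernel

theorem hdefs : defs F 477 = true := by decide +kernel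

noncomputable def st0_l : List Nat := [nat_lit 0x3ff, nat_lit 0x3ff, nat_lit 0x3ff, nat_lit 0x3ff, nat_lit 0x3ff, nat_lit 0x3ff, nat_lit 0x1dd80000403, nat_lit 0x1de80000403, nat_lit 0x1df80000403, nat_lit 0x1e180000403, nat_lit 0x1e280000403, nat_lit 0x2001e380000c03, nat_lit 0x2001e480000c03, nat_lit 0x2001e680000c03, nat_lit 0x2001e780000c03, nat_lit 0x200000800002001e5800f2405, nat_lit 0x100000400001000f2c0078e000030000280002408, nat_lit 0x12003da0000400001000004003cb0000180001408, nat_lit 0x4001ea80001403, nat_lit 0x4001eb80001403, nat_lit 0x1800008003d30000280001c05, nat_lit 0xc0000300002403, nat_lit 0x70000200000a00003000f740000e0000b0000880007409, nat_lit 0x8001ef80002403, nat_lit 0x8001f080002403, nat_lit 0xf94007b4000080000200000805, nat_lit 0xa001f180002c03, nat_lit 0x120000500003403, nat_lit 0x140000500003c03, nat_lit 0x700002200009000fb8000140000d0000b8000a408, nat_lit 0x72003f50001400005800018003e30000680005c08, nat_lit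 0x500001600006000f8c0001a0001700014800fd008, nat_lit 0x1e0000800004c03, nat_lit 0xd000040000100000a80009c05, nat_lit 0x240000900005403, nat_lit 0x14001f780005403, nat_lit 0x4000013001000000280000a00003000010007aa003d1001e9800014007be003dd00003800f8c0001e003f20001380010c13, nat_lit 0x2a0000b00006403, nat_lit 0x2c0000b00006c03, nat_lit 0x58007ca003db001f200005c05, nat_lit 0x10200002c0000c001f180003405, nat_lit 0xe4007ea000280000b000f9405, nat_lit 0x60007ca003e9001f200006405, nat_lit 0x68007ca003eb001f200006c05, nat_lit 0x2e0000e00007c03, nat_lit 0x320000f00008403, nat_lit 0x3a0001100009403, nat_lit 0xd800044003fa0001880015405, nat_lit 0xa4007e80003800011000fe805, nat_lit 0xf800048003fa0001980016c05, nat_lit 0x26001ff0000fc03, nat_lit 0x1080004c004010001380010c05, nat_lit 0x28002048000a403, nat_lit 0x44000140000ac03, nat_lit 0x46000140000b403, nat_lit 0x2a001fb0000ec03, nat_lit 0x940002a001fb0000f404, nat_lit 0x8540004a000150000b404,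 nat_lit 0x8500002a0001680013c04, nat_lit 0x12000054004090001580012405, nat_lit 0x13000058004090001680013405, nat_lit 0x2e001f38000bc03, nat_lit 0x300020900014403, nat_lit 0x58000180000cc03, nat_lit 0x320020900014c03, nat_lit 0x340020a00016c03, nat_lit 0x5e0001b0000e403, nat_lit 0x280000c4000360001e8001ac05, nat_lit 0x248000b800036001fb801024007ec000370002e80024c09, nat_lit 0x640001c0000ec03, nat_lit 0x660001c0000f403, nat_lit 0x1b80007c00416000348002ac05, nat_lit 0x400020f8001b403, nat_lit 0x40200020000ff003, nat_lit 0x1e4000b40022500010000086000710005c8003dc08, nat_lit 0x44c0002100010403, nat_lit 0x16c0006e0020f000104008a00043d0004880034408, nat_lit 0xe0000420020f8001bc0016e004530006800024008, nat_lit 0x89e000f60005c0001c0000840041f000378002dc08, nat_lit 0x170000700002100107c000de000b70022980034008, nat_lit 0x44001fc80019403, nat_lit 0x44001fa00019403, nat_lit 0x1c80008800423000228001cc05, nat_lit 0x46001fa00019c03, nat_lit 0x1d00008c00423000238001d405,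 nat_lit 0x48002120001cc03, nat_lit 0x1200080a0040f0020200012405, nat_lit 0x300000f000048000258001ec05, nat_lit 0x4c002130001d403, nat_lit 0x1300080e004110020300013405, nat_lit 0x308000f80004c000278001fc05, nat_lit 0x4e002130001dc03, nat_lit 0x840002800014c03, nat_lit 0x218000a4004350002980021c05, nat_lit 0x8a0002a00015c03, nat_lit 0x32800118000540002c80023c05, nat_lit 0x560021b80020c03, nat_lit 0x580021b80021403, nat_lit 0x240000b4004380004780033c05, nat_lit 0x5c0020c80022403, nat_lit 0x940002e00017c03, nat_lit 0x960002e00018403, nat_lit 0x12c0005c0003180028c04, nat_lit 0x1300005c0003080027c04, nat_lit 0x9c0002f00018c03, nat_lit 0x600020c80023403, nat_lit 0x290000c80043e0004d80035405, nat_lit 0x298000cc0043e0004e80035c05, nat_lit 0x680022200029403, nat_lit 0x6a0022300029c03, nat_lit 0x6c0020e80115003, nat_lit 0x70002108001c403, nat_lit 0x2e8000e40045d0005280038405, nat_lit 0x2f0000e8004610005380039c05, nat_lit 0x7e002388002fc03,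 nat_lit 0xc40004000020c03, nat_lit 0x218008740005b0022a001264008aa0005a0021d80021c09, nat_lit 0xd20004900025403, nat_lit 0x960024080032403, nat_lit 0xa00024500035c03, nat_lit 0xea000540002ac03, nat_lit 0xa80024980037c03, nat_lit 0xac0024980038c03, nat_lit 0xee000570002c403, nat_lit 0xae0024a80039403, nat_lit 0x3c000160004950007380127005, nat_lit 0xb20024a8003a403, nat_lit 0xb40024b8002e403, nat_lit 0xb6002248003b403, nat_lit 0x3d000170004990005c8003d405, nat_lit 0xba0022f8002ec03, nat_lit 0xbc002318002f403, nat_lit 0xfc0006600033c03, nat_lit 0xcc0023c0003ec03, nat_lit 0xd20022180034c03, nat_lit 0xec0025500041403, nat_lit 0xf00025800041c03, nat_lit 0xfe002638003fc03, nat_lit 0xef00077e003c1001df800f0405, nat_lit 0x10fc007ea00422001fa0010f805, nat_lit 0x114004180002f80134400904000940024080031c08, nat_lit 0x128004810006380134800114004180002f80120808, nat_lit 0xdc008320008b0026980031805, nat_lit 0x3f80094a004d4002520003fc05, nat_lit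 0x43000020003ef0000880043405, nat_lit 0x10e0008600007403, nat_lit 0x1100026d80044403, nat_lit 0x448009ba003e70026e00044c05, nat_lit 0x1140008700044403, nat_lit 0x11a0008900045403, nat_lit 0x4780022c004df0008b80047c05, nat_lit 0x4780022c001100008600007c05, nat_lit 0x2400011600271000450009ba0002f0002880020c08, nat_lit 0x4440022e001210027580128005, nat_lit 0x1220008c00046c03, nat_lit 0x2500011c00271800440002180001f0001880015c08, nat_lit 0x12a002738004ac03, nat_lit 0x12c0008f00048403, nat_lit 0xbc000a200083002750013d005, nat_lit 0x12e0027780049403, nat_lit 0x4c000248004e50008e80049c05, nat_lit 0x136000930004a403, nat_lit 0x138000950004b403, nat_lit 0x4e8009ea004eb002500003e405, nat_lit 0x1400002740012c002738004b405, nat_lit 0x27c0012e00277800468009c20011b000928004cc08, nat_lit 0x1400027d8004d403, nat_lit 0x142000980004cc03, nat_lit 0x1440009a0004dc03, nat_lit 0x518009fa004f10023b00134c05, nat_lit 0x1480027f8004ec03, nat_lit 0x14a0028080042403,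 nat_lit 0x14e0009e0004fc03, nat_lit 0x152000a000050c03, nat_lit 0x1560028580051c03, nat_lit 0x1580028680031803, nat_lit 0x5680029000138002798004e405, nat_lit 0x15c0028780052c03, nat_lit 0x2b8001480027f8004b0009ce0012d0009d80052c08, nat_lit 0x162000a600053c03, nat_lit 0x59000a26005050028400055405, nat_lit 0x16a000a800054c03, nat_lit 0x16c0028a80055403, nat_lit 0x16e0028b80056403, nat_lit 0x2e000528000b70005580028800506000a98005b408, nat_lit 0x1460002e20052b000b600054805, nat_lit 0x172000ad00057403, nat_lit 0x4b4002760014b0028f0014b805, nat_lit 0x1740028e80057c03, nat_lit 0x5e0002c00014c0009e0013e40026200141000a880059c09, nat_lit 0x17a000b000058c03, nat_lit 0x17c0029080059403, nat_lit 0x17e000b30005ac03, nat_lit 0x1860029580061403, nat_lit 0x618002e0005190024000024c05, nat_lit 0x14f000a7e000d30007f80136405, nat_lit 0x53f002210014f803, nat_lit 0x53c002a10014f403, nat_lit 0x14e400a4600526000c28015100030800527002910014e009, nat_lit 0x14dc002fa00546000be0014d805,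 nat_lit 0x188002978005d403, nat_lit 0x62000a60004e90020d00102c007da000000026780133c0099e004cf00267800004007b00040c0026b8014b411, nat_lit 0x18a002998005dc03, nat_lit 0x18c000bc0005ec03, nat_lit 0x18c0029a8005fc03, nat_lit 0x551002a400154003, nat_lit 0x18e0029d80060c03, nat_lit 0x63800aa400555002a980063c05, nat_lit 0x6400030000168000a800153005, nat_lit 0x18a002a500156803, nat_lit 0x5a8002d200181000c880157005, nat_lit 0x6480030400525000b680061405, nat_lit 0x648003040016a000b480060405, nat_lit 0x34800a7c0053d002b000064805, nat_lit 0x561002a200158003, nat_lit 0x2b380064800aac00559002ab80064c00ace00192002ab0015640a, nat_lit 0xad000566002b480155c04, nat_lit 0xac000569002b580060804, nat_lit 0xac400569002b580159004, nat_lit 0x55e002b600150403, nat_lit 0x190002b78003fc03, nat_lit 0x54e002b880133403, nat_lit 0x18b002b880042c03, nat_lit 0x55a002b980042c03, nat_lit 0x177002ba80042c03, nat_lit 0x2bb0005d002, nat_lit 0x189002bc8015f403, nat_lit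 0x57c002bd00057803, nat_lit 0x160000a5c0057f002c080144405, nat_lit 0x5cc00afe00581002c180042005, nat_lit 0x2ba00581002c180042004, nat_lit 0x51a002c280140c03, nat_lit 0xb1000149002c38003e004, nat_lit 0x4ed002c50013d803, nat_lit 0x8680163402, nat_lit 0x8f600082000280000b800b1c0001f0001880015c08, nat_lit 0x1348008ee005900023b00134c05, nat_lit 0xc7002c900031803, nat_lit 0x24800902005940024000024c05, nat_lit 0x1940023380065403, nat_lit 0x1940021880065403, nat_lit 0x198000ca00119403, nat_lit 0x198002cd80066403, nat_lit 0x3340059b000ca0001e404, nat_lit 0x1a0000cb00066403, nat_lit 0x6880032c0059b000cb80068c05, nat_lit 0x1a6002ce8002ec03, nat_lit 0x1ac000ce00067c03, nat_lit 0x1ae000ce00068c03, nat_lit 0x1b0000ce00069403, nat_lit 0x1b2000cf00068c03, nat_lit 0x36c001a2000ce8006c404, nat_lit 0x6e00034800196000cd8006a405, nat_lit 0x374005ac000d80006bc04, nat_lit 0x710003540019c000cb0006500009000429000348002a409, nat_lit 0x74800368005a3000d38006f405,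 nat_lit 0x7500036c005a5000db80075405, nat_lit 0x1d6002d980070403, nat_lit 0x1dc000de00069800b3e0059d00039001174000c8003f800211800fd0000ca0045a000398002ec0097e005a6000de8016e013, nat_lit 0x1de000de0006fc03, nat_lit 0x1e0002dc0016f803, nat_lit 0x1e2000df00169c03, nat_lit 0x3c4001be000d300066000b3200199000d38006fc08, nat_lit 0x119400176005c4002e380170005, nat_lit 0x3cc001c0002d900076404, nat_lit 0x7a000384001a8002d080030405, nat_lit 0x3d4001c2000e08016f004, nat_lit 0x1ec000e200071c03, nat_lit 0x1ee000e200072403, nat_lit 0x1f0000e200072c03, nat_lit 0x7c80038c001aa000d680073405, nat_lit 0x1f6000e300072403, nat_lit 0x7e000390001aa000d780073c05, nat_lit 0x3f4001c8000e28007c404, nat_lit 0x7f000394001aa000d880074405, nat_lit 0x3fc005d4000f80007bc04, nat_lit 0x838003a8005b1000e880083405, nat_lit 0x848003b0001b8000dd80076c05, nat_lit 0x850003b4005b5000e780082405, nat_lit 0x216000ee00077c03, nat_lit 0x21a000ef00078403, nat_lit 0x21c002e280126c03,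 nat_lit 0x87000b8e001be000d300066005, nat_lit 0x890003d8005b70007580040c05, nat_lit 0x226002e88007d403, nat_lit 0x228000f60007bc03, nat_lit 0x22e002eb80080403, nat_lit 0x230000f90007d403, nat_lit 0x236002ed80081403, nat_lit 0x238002ed80081c03, nat_lit 0x23c002ef80082c03, nat_lit 0x2420010000080c03, nat_lit 0x91000408001ce002d580169400b54001cf0010280091409, nat_lit 0x2460010200081c03, nat_lit 0x2480010200082403, nat_lit 0x49400606001240017e804, nat_lit 0x49c0020a002ef0008fc04, nat_lit 0x4a00020c001058017f804, nat_lit 0x94800420005bd000f280088405, nat_lit 0x12900084000b9c001ea000f4801734008d20007a002158000f00006e000610004f8003640e, nat_lit 0x254002f480086403, nat_lit 0x95800430005c1002e300087405, nat_lit 0x25a0010c00086c03, nat_lit 0x9780043c001e4000f380088c05, nat_lit 0x98000c1c006110006c00122005, nat_lit 0x4b00026400c340026000110000790003ce005cb001098017940042a005e7001258018240e, nat_lit 0x91000bf40061c0004b00024c05, nat_lit 0x61f002cb00187803,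 nat_lit 0x9180048a006200012200091c05, nat_lit 0x264001120007b0003de005d3000fc8008e400bfa006040031180091800bf400236000fc001760003ec005d0001128017c413, nat_lit 0x2660011200089c03, nat_lit 0x2680013280189403, nat_lit 0x278001170008c403, nat_lit 0x27a001170008cc03, nat_lit 0x27a002fb80090c03, nat_lit 0x9f000464001f2000fb8008d405, nat_lit 0x9f800468005d9000fc8008e405, nat_lit 0x2800011b0008e403, nat_lit 0x280002fd80091c03, nat_lit 0xa0800474005dd001168009d405, nat_lit 0x142001830004a0005e2001070016ec003a8005b1000d80006ac00392001fb0011d800a0c0e, nat_lit 0x93000bfc002850031d8018e405, nat_lit 0xa180047c001fc000ff80090405, nat_lit 0x1430008f800bbe001d0002d80006d800b4a001a2000d28006e4003b2005ca001118018600e, nat_lit 0xc7c006410030c80098c04, nat_lit 0x190800480005e1001158009cc05, nat_lit 0x32200190800c7c00286003050009380049a0063d0013a0008b0003e0001ef001158009cc0e, nat_lit 0x9c0004e600647001390009b405, nat_lit 0x3240009c002, nat_lit 0x28a0030980096403,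 nat_lit 0x28c0012b00096403, nat_lit 0x51800615002f6800380001be004ac0007580041408, nat_lit 0x28e0030a80097403, nat_lit 0x5200064c001450009500042c005c2002f500185808, nat_lit 0x2940013200099c03, nat_lit 0xa58004d000224001148009ac05, nat_lit 0xa60004d4005f5001158009bc05, nat_lit 0x29a0013b0009e403, nat_lit 0x2a0003188009fc00c66006340031b8009180048a006030030f80165c001240005c0003080123400196000fb002620003f413, nat_lit 0xa7800c5a0027d0015080197c009860047e0022c0003d409, nat_lit 0x6610025e00198003, nat_lit 0x6600014f0018bc0048400200000e60006b00035e005ab002d28016b800364005a8000e6801758004660062c0014f80198c13, nat_lit 0x1440018b80053e006620014f0018bc06, nat_lit 0x333000a2002, nat_lit 0x14e0009d8004f60029f003320003d006, nat_lit 0x29d003358012e003, nat_lit 0x29a003368003cc03, nat_lit 0x33700197402, nat_lit 0xcb60026e003250009b000454005f400114001744003e6005d70010180180000cd00062e0013d0008b8003e4001c6000e480174814, nat_lit 0x299003398017d003, nat_lit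 0x6590033a8008a003, nat_lit 0x2970033b80089403, nat_lit 0x2640033c0018a403, nat_lit 0x33d000a5402, nat_lit 0x33d00189402, nat_lit 0x195c00c4e005f3002fc0018a800ce0004570025d80132409, nat_lit 0x67c0033f8019f403, nat_lit 0xa880051c002560012d800a4c05, nat_lit 0x2a40032a800a4c03, nat_lit 0xa90005200064e00328801a0005, nat_lit 0x68900341001a2003, nat_lit 0xd0a0068600345001a1c04, nat_lit 0x2a300346800a4803, nat_lit 0x6520034780185c03, nat_lit 0x25d0034880086803, nat_lit 0x5ee0034980172003, nat_lit 0xca801a5402, nat_lit 0x4640034b00119403, nat_lit 0x4730002900104c007f6000230001d8010a0000920046600218001a5800090004050000c000fc0007f4000310002c8011f413, nat_lit 0xba0034c0002ec03, nat_lit 0x49a0005d00117800d30000720022e800190007f000423001fa000194008b4000730005d8012fc00d3a0049b0007000123c13, nat_lit 0x218008e40069a0023980021c05, nat_lit 0xde00247801a7803, nat_lit 0x4a700064000220000a800030000198010ec0010e006a00023a80128c0010c00472000420010d8000aa004180003080121013,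 nat_lit 0x3700090c006a40024380037405, nat_lit 0x2a600236800a9c03, nat_lit 0x2a600219800a9c03, nat_lit 0x2aa001530011ac03, nat_lit 0x2aa00355800aac03, nat_lit 0x2ac00354800ab403, nat_lit 0x558002a6002198001f404, nat_lit 0x2b000154000aac03, nat_lit 0xad000550006ab00154800ad405, nat_lit 0x2b6003568002f403, nat_lit 0x2b800155000ab403, nat_lit 0x2be00157000ac403, nat_lit 0x2c200157000ad403, nat_lit 0x2c600158000acc03, nat_lit 0xb2000d6a006af0035a000b2405, nat_lit 0xb2800564002a800156800aec05, nat_lit 0x598002b200157800b0c04, nat_lit 0x59c006be00161000b0404, nat_lit 0x2d40015b000ae403, nat_lit 0x2d60015c001ab403, nat_lit 0xd9a0046200366000b5804, nat_lit 0x2d80035d800aec03, nat_lit 0xb7000574006b10015d800b7405, nat_lit 0xb8000578002ae00154000a98000980042c000358002bc09, nat_lit 0x2e60035e800b1403, nat_lit 0x2ea0035e800b2403, nat_lit 0xbb800588006b50015b800b4405, nat_lit 0x2f000162000b2403, nat_lit 0x2f200360800b2c03, nat_lit 0xbc80058c006b50015c800b6405,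 nat_lit 0x2f400360800b3403, nat_lit 0x5ec006d800175000ba404, nat_lit 0x2f800362800b6c03, nat_lit 0x30000168000b4c03, nat_lit 0x30600169001ae403, nat_lit 0x60c002d20015b000aa800d52002ab0015b800b4c08, nat_lit 0x30800365800b5c03, nat_lit 0x3080016a001ae403, nat_lit 0xde2004c000378000c2004, nat_lit 0xc3000d9a000740003b8002fc05, nat_lit 0x30e00368800b6c03, nat_lit 0x31200368800b7c03, nat_lit 0x3160016d000b7403, nat_lit 0x3180016d000b7c03, nat_lit 0x630006e60017c000bec04, nat_lit 0x31a00369800c6c03, nat_lit 0x31c0016e000b7c03, nat_lit 0xc78005bc002ba0035980030c05, nat_lit 0x640006fc0018c001b9804, nat_lit 0x32200170000b8c03, nat_lit 0x3220036a8012cc03, nat_lit 0x32800171000b9403, nat_lit 0xca8005c8002bc00160800bb405, nat_lit 0x658002e400170800c9404, nat_lit 0x32e00173000ba403, nat_lit 0x3300036b800bc403, nat_lit 0x3340036d800bfc03, nat_lit 0x33a0036d800c1403, nat_lit 0x33c0036e800bdc03, nat_lit 0x6780071400198000cbc04, nat_lit 0x33e00370800c4403,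 nat_lit 0x3400036f800bec03, nat_lit 0x34200371800bf403, nat_lit 0x1a3001c18006400031f003828011bc000fc0042e0001d0000dc000c6000a30006e801a9c0e, nat_lit 0x18a001b980068e007250006e00028806, nat_lit 0x3150039380028403, nat_lit 0x3160039480036c03, nat_lit 0x6f7003948012a403, nat_lit 0x3180039480110403, nat_lit 0x395001bec02, nat_lit 0x396000c3802, nat_lit 0x6fc003978002bc03, nat_lit 0x6fe003978002cc03, nat_lit 0x31e0039a801b5003, nat_lit 0x7030039a8003bc03, nat_lit 0x6f90039a8012cc03, nat_lit 0x7210039b8012dc03, nat_lit 0x39b000be802, nat_lit 0x3240039c001c1403, nat_lit 0x39d000c7002, nat_lit 0x39e000c4802, nat_lit 0x39f000d0002, nat_lit 0x711003a18011bc03, nat_lit 0x3a5000cb002, nat_lit 0x31a0039800040403, nat_lit 0x70f00176001b200059c006b60015a000acc0059600740000590001a8000780003b000348002b40f, nat_lit 0x3a8000ca802, nat_lit 0x31a003a200041c03, nat_lit 0xc3000d9e002d9003a3001c2805, nat_lit 0x199001b90005ec006c200164000b1c005e60074800074000298000cc000650005280038c0e,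 nat_lit 0x70d003a600127c03, nat_lit 0x70d003a90012bc03, nat_lit 0xd44000de00071801d6004, nat_lit 0x1a2000bd800590006b50015c801b380061a006f5003ad001d7400eb00075e0024d0012fc0e, nat_lit 0x75e0007000038c03, nat_lit 0x1a5000bf000d8e002c20015e800b9400e980007e000270000b0008120002b000258001ec0e, nat_lit 0x6900034b003b28011a004, nat_lit 0x34e0017f000c0403, nat_lit 0x3500017f000c0c03, nat_lit 0x35400180000c1403, nat_lit 0xd5800604002d00016a800c2c05, nat_lit 0x3580037580127403, nat_lit 0x36000188001cc803, nat_lit 0xe600248801dc803, nat_lit 0x36400384800c9c03, nat_lit 0x364003ab000d7c03, nat_lit 0x36600193000ca403, nat_lit 0x1c4c0066600763003ae001de805, nat_lit 0x368003bb001de403, nat_lit 0x36c0019a000cec03, nat_lit 0x6e0003380019a800db404, nat_lit 0x374003c0001e0803, nat_lit 0x3780019f001d2003, nat_lit 0x6f00071f001b0801dd004, nat_lit 0x37c00391800d2403, nat_lit 0x37e003b08002e803, nat_lit 0x7800232801e3003, nat_lit 0x380003b4800d4c03, nat_lit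 0xe08006a4006e900376000d6405, nat_lit 0x386001a9000d5403, nat_lit 0x388003b8801dd403, nat_lit 0xe30006b4006ef00186800d7c05, nat_lit 0xe38006b4006f10024e801e2005, nat_lit 0xe40006b4006f300185800d7405, nat_lit 0x7240077e001b4000d9c04, nat_lit 0xe50006c400701001b1800e5405, nat_lit 0x72c00362003a7800400001b4004a9003b9001e5808, nat_lit 0x793001c4801e8803, nat_lit 0x398001b1001d5403, nat_lit 0x398001cb801e9003, nat_lit 0x384001c1801ea003, nat_lit 0x39a003bb800d9c03, nat_lit 0xe78006dc003360036d800b4005, nat_lit 0xe90006ec0071b001a2800dfc05, nat_lit 0xc0003c7801ec003, nat_lit 0x7b2003b3001e2803, nat_lit 0x7b4001d2000e8c03, nat_lit 0x7b6001be000dec03, nat_lit 0xe98006ec0071d003be801e7805, nat_lit 0x750007b8001d1000e9c04, nat_lit 0x3aa003c8800e1403, nat_lit 0x75400380003b4800c0000db400337001b7800e7c08, nat_lit 0x3ac003df001f0403, nat_lit 0x758007be001d5000e000069c00716001b5800e7408, nat_lit 0xd3000e2c0036b001ce801f1005, nat_lit 0x3ae001c2000e1c03,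 nat_lit 0xdc800e320076c003ca001f2005, nat_lit 0x3b2001c5000e3c03, nat_lit 0x7180035a00184000b500056c006b40035e000ba400e240077d003d6000e68006c80070b000720003a400f0c0079a003e6000ec814, nat_lit 0x3b0003e7001e6403, nat_lit 0x3e8000ec002, nat_lit 0x1ef400f7600392003e9800ecc05, nat_lit 0x3b4001c5000e4403, nat_lit 0x76c007d6001da000ecc04, nat_lit 0x3a0001b8000ce0005dc002f10019e800ddc0074e007bc003ea801f600076c0079d001ae001db80f, nat_lit 0x3a1003ed800d5803, nat_lit 0x785003ee801da803, nat_lit 0x375003ef800d4003, nat_lit 0x372003f0800d3403, nat_lit 0x7ca003f1801f1c03, nat_lit 0x3f2000eb802, nat_lit 0x3b8003d0800ee403, nat_lit 0xee00072800399003d5001f9805, nat_lit 0x3f5001fa400fd6003ac003d5801e9c06, nat_lit 0x7c2003f680132803, nat_lit 0x7ae003f78012d403, nat_lit 0x2b7003f88002f003, nat_lit 0x2ab003f98011a803, nat_lit 0x153801fd402]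
theorem st0 : band (steps F IV RT base st0_l 477) (Nat.beq (Nat.add 477 (llen st0_l)) 1020) = true := by decide +kernel

theorem rot1_1 : T.rot 1 [1] (sel (ones 22880) ip1 1) = true := by decide +kernel

theorem rot1_1r : band (Rule.ok (2 * 7) EX RL ⟨1 :: [1], [], 26, false⟩) (lall (memL L) [1]) = true := by decide +kernel

theorem rot1_2 : T.rot 1 [3, 1, 3] (sel (ones 22880) ip1 2) = true := by decide +kernel

theorem rot1_2r : band (Rule.ok (2 * 7) EX RL ⟨1 :: [3, 1, 3], [], 1, false⟩) (lall (memL L) [3, 1, 3]) = true := by decide +kernel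

theorem rot1_3 : T.rot 1 [4, 1, 4] (sel (ones 22880) ip1 3) = true := by decide +kernel

theorem rot1_3r : band (Rule.ok (2 * 7) EX RL ⟨1 :: [4, 1, 4], [], 2, false⟩) (lall (memL L) [4, 1, 4]) = true := by decide +kernel

theorem rot1_4 : T.rot 1 [5, 1, 5] (sel (ones 22880) ip1 4) = true := by decide +kernel

theorem rot1_4r : band (Rule.ok (2 * 7) EX RL ⟨1 :: [5, 1, 5], [], 3, false⟩) (lall (memL L) [5, 1, 5]) = true := by decide +kernel

theorem rot1_5 : T.rot 1 [6, 1, 6] (sel (ones 22880) ip1 5) = true := by decide +kernel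

theorem rot1_5r : band (Rule.ok (2 * 7) EX RL ⟨1 :: [6, 1, 6], [], 4, false⟩) (lall (memL L) [6, 1, 6]) = true := by decide +kernel

theorem rot1_6 : T.rot 1 [7, 1, 7] (sel (ones 22880) ip1 6) = true := by decide +kernel

theorem rot1_6r : band (Rule.ok (2 * 7) EX RL ⟨1 :: [7, 1, 7], [], 5, false⟩) (lall (memL L) [7, 1, 7]) = true := by decide +kernel

theorem rot1_7 : T.rot 1 [6, 7, 6, 7] (sel (ones 22880) ip1 7) = true := by decide +kernel

theorem rot1_7r : band (Rule.ok (2 * 7) EX RL ⟨1 :: [6, 7, 6, 7], [0], 22, true⟩) (lall (memL L) [6, 7, 6, 7]) = true := by decide +kernel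

theorem rot1_8 : T.rot 1 [7, 6, 7, 6] (sel (ones 22880) ip1 8) = true := by decide +kernel

theorem rot1_8r : band (Rule.ok (2 * 7) EX RL ⟨1 :: [7, 6, 7, 6], [], 22, false⟩) (lall (memL L) [7, 6, 7, 6]) = true := by decide +kernel

theorem rot1_9 : T.rot 1 [3, 4, 3, 4, 3, 4, 3, 4] (sel (ones 22880) ip1 9) = true := by decide +kernel

theorem rot1_9r : band (Rule.ok (2 * 7) EX RL ⟨1 :: [3, 4, 3, 4, 3, 4, 3, 4], [0], 21, true⟩) (lall (memL L) [3, 4, 3, 4, 3, 4, 3, 4]) = true := by decide +kernel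

theorem rot1_10 : T.rot 1 [4, 3, 4, 3, 4, 3, 4, 3] (sel (ones 22880) ip1 10) = true := by decide +kernel

theorem rot1_10r : band (Rule.ok (2 * 7) EX RL ⟨1 :: [4, 3, 4, 3, 4, 3, 4, 3], [], 21, false⟩) (lall (memL L) [4, 3, 4, 3, 4, 3, 4, 3]) = true := by decide +kernel

theorem rot1_11 : T.rot 1 [2, 1, 2, 1, 2, 1, 2, 1, 2] (sel (ones 22880) ip1 11) = true := by decide +kernel

theorem rot1_11r : band (Rule.ok (2 * 7) EX RL ⟨1 :: [2, 1, 2, 1, 2, 1, 2, 1, 2], [], 0, false⟩) (lall (memL L) [2, 1, 2, 1, 2, 1, 2, 1, 2]) = true := by decide +kernel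

theorem rot1_12 : T.rot 1 [6, 3, 2, 1, 6, 3, 2, 1, 6, 3, 2, 1, 6, 3, 2, 1, 6, 3, 2] (sel (ones 22880) ip1 12) = true := by decide +kernel

theorem rot1_12r : band (Rule.ok (2 * 7) EX RL ⟨1 :: [6, 3, 2, 1, 6, 3, 2, 1, 6, 3, 2, 1, 6, 3, 2, 1, 6, 3, 2], [0], 23, true⟩) (lall (memL L) [6, 3, 2, 1, 6, 3, 2, 1, 6, 3, 2, 1, 6, 3, 2, 1, 6, 3, 2]) = true := by decide +kernel

theorem rot1_13 : T.rot 1 [2, 3, 6, 1, 2, 3, 6, 1, 2, 3, 6, 1, 2, 3, 6, 1, 2, 3, 6] (sel (ones 22880) ip1 13) = true := by decide +kernel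

theorem rot1_13r : band (Rule.ok (2 * 7) EX RL ⟨1 :: [2, 3, 6, 1, 2, 3, 6, 1, 2, 3, 6, 1, 2, 3, 6, 1, 2, 3, 6], [], 23, false⟩) (lall (memL L) [2, 3, 6, 1, 2, 3, 6, 1, 2, 3, 6, 1, 2, 3, 6, 1, 2, 3, 6]) = true := by decide +kernel

theorem ep1a : T.treePath [5, 4, 3, 2, 4, 3, 6, 2] (Nat.shiftLeft 1 73) 1 = true := by decide +kernel

theorem ep1b : T.treePath [5, 4, 3, 2, 4, 3, 6, 2] (Nat.shiftLeft 1 73) 1 = true := by decide +kernel

theorem ep1c : band (lall (fun z => Nat.ble z 255) ([5, 4, 3, 2, 4, 3, 6, 2] ++ 1 :: [2, 6, 3, 4, 2, 3, 4, 5])) (concl F IV 1020 0x40000600005000038000340002e0002b00024801a58000900002a0000b0000300000c000040000100000011 (encA ([5, 4, 3, 2, 4, 3, 6, 2] ++ 1 :: [2, 6, 3, 4, 2, 3, 4, 5]) 0)) = true := by decide +kernel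

theorem ep1d : band (Rule.ok (2 * 7) EX [] ⟨lapp [5, 4, 3, 2, 4, 3, 6, 2] [2, 6, 3, 4, 2, 3, 4, 5], [], 0, false⟩) (band (lall (memL L) [5, 4, 3, 2, 4, 3, 6, 2]) (lall (memL L) [5, 4, 3, 2, 4, 3, 6, 2])) = true := by decide +kernel

theorem ep2a : T.treePath [5, 4, 3, 2, 4, 3, 7, 2] (Nat.shiftLeft 1 75) 1 = true := by decide +kernel

theorem ep2b : T.treePath [5, 4, 3, 2, 4, 3, 7, 2] (Nat.shiftLeft 1 75) 1 = true := by decide +kernel

theorem ep2c : band (lall (fun z => Nat.ble z 255) ([5, 4, 3, 2, 4, 3, 7, 2] ++ 1 :: [2, 7, 3, 4, 2, 3, 4, 5])) (concl F IV 1020 0x40000600005000038000340002e0002d00026801fd8000980002c0000b0000300000c000040000100000011 (encA ([5, 4, 3, 2, 4, 3, 7, 2] ++ 1 :: [2, 7, 3, 4, 2, 3, 4, 5]) 0)) = true := by decide +kernel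

theorem ep2d : band (Rule.ok (2 * 7) EX [] ⟨lapp [5, 4, 3, 2, 4, 3, 7, 2] [2, 7, 3, 4, 2, 3, 4, 5], [], 0, false⟩) (band (lall (memL L) [5, 4, 3, 2, 4, 3, 7, 2]) (lall (memL L) [5, 4, 3, 2, 4, 3, 7, 2])) = true := by decide +kernel

theorem cov1 : T.cover 1 [(sel (ones 22880) ip1 1), (sel (ones 22880) ip1 2), (sel (ones 22880) ip1 3), (sel (ones 22880) ip1 4), (sel (ones 22880) ip1 5), (sel (ones 22880) ip1 6), (sel (ones 22880) ip1 7), (sel (ones 22880) ip1 8), (sel (ones 22880) ip1 9), (sel (ones 22880) ip1 10), (sel (ones 22880) ip1 11), (sel (ones 22880) ip1 12), (sel (ones 22880) ip1 13), 1, (Nat.shiftLeft 1 73), (Nat.shiftLeft 1 75)] = true := by decide +kernel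

theorem tl1 : T.treeLt 15 1 = true := by decide +kernel

theorem rot2_1 : T.rot 2 [2] (sel (ones 22880) ip2 1) = true := by decide +kernel

theorem rot2_1r : band (Rule.ok (2 * 7) EX RL ⟨2 :: [2], [], 26, false⟩) (lall (memL L) [2]) = true := by decide +kernel

theorem rot2_2 : T.rot 2 [4, 2, 4] (sel (ones 22880) ip2 2) = true := by decide +kernel

theorem rot2_2r : band (Rule.ok (2 * 7) EX RL ⟨2 :: [4, 2, 4], [], 7, false⟩) (lall (memL L) [4, 2, 4]) = true := by decide +kernel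

theorem rot2_3 : T.rot 2 [5, 2, 5] (sel (ones 22880) ip2 3) = true := by decide +kernel

theorem rot2_3r : band (Rule.ok (2 * 7) EX RL ⟨2 :: [5, 2, 5], [], 8, false⟩) (lall (memL L) [5, 2, 5]) = true := by decide +kernel

theorem rot2_4 : T.rot 2 [3, 2, 3, 2, 3] (sel (ones 22880) ip2 4) = true := by decide +kernel

theorem rot2_4r : band (Rule.ok (2 * 7) EX RL ⟨2 :: [3, 2, 3, 2, 3], [], 6, false⟩) (lall (memL L) [3, 2, 3, 2, 3]) = true := by decide +kernel

theorem rot2_5 : T.rot 2 [6, 2, 6, 2, 6] (sel (ones 22880) ip2 5) = true := by decide +kernel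

theorem rot2_5r : band (Rule.ok (2 * 7) EX RL ⟨2 :: [6, 2, 6, 2, 6], [], 9, false⟩) (lall (memL L) [6, 2, 6, 2, 6]) = true := by decide +kernel

theorem rot2_6 : T.rot 2 [7, 2, 7, 2, 7] (sel (ones 22880) ip2 6) = true := by decide +kernel

theorem rot2_6r : band (Rule.ok (2 * 7) EX RL ⟨2 :: [7, 2, 7, 2, 7], [], 10, false⟩) (lall (memL L) [7, 2, 7, 2, 7]) = true := by decide +kernel

theorem rot2_7 : T.rot 2 [9, 4, 3, 4, 3] (sel (ones 22880) ip2 7) = true := by decide +kernel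

theorem rot2_7r : band (Rule.ok (2 * 7) EX RL ⟨2 :: [9, 4, 3, 4, 3], [], 26, false⟩) (lall (memL L) [9, 4, 3, 4, 3]) = true := by decide +kernel

theorem rot2_8 : T.rot 2 [3, 4, 3, 4, 8] (sel (ones 22880) ip2 8) = true := by decide +kernel

theorem rot2_8r : band (Rule.ok (2 * 7) EX RL ⟨2 :: [3, 4, 3, 4, 8], [], 26, false⟩) (lall (memL L) [3, 4, 3, 4, 8]) = true := by decide +kernel

theorem rot2_9 : T.rot 2 [1, 2, 1, 2, 1, 2, 1, 2, 1] (sel (ones 22880) ip2 9) = true := by decide +kernel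

theorem rot2_9r : band (Rule.ok (2 * 7) EX RL ⟨2 :: [1, 2, 1, 2, 1, 2, 1, 2, 1], [], 0, true⟩) (lall (memL L) [1, 2, 1, 2, 1, 2, 1, 2, 1]) = true := by decide +kernel

theorem rot2_10 : T.rot 2 [7, 6, 2, 7, 6, 2, 7, 6, 2, 7, 6, 2, 7, 6] (sel (ones 22880) ip2 10) = true := by decide +kernel

theorem rot2_10r : band (Rule.ok (2 * 7) EX RL ⟨2 :: [7, 6, 2, 7, 6, 2, 7, 6, 2, 7, 6, 2, 7, 6], [2], 24, true⟩) (lall (memL L) [7, 6, 2, 7, 6, 2, 7, 6, 2, 7, 6, 2, 7, 6]) = true := by decide +kernel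

theorem rot2_11 : T.rot 2 [6, 7, 2, 6, 7, 2, 6, 7, 2, 6, 7, 2, 6, 7] (sel (ones 22880) ip2 11) = true := by decide +kernel

theorem rot2_11r : band (Rule.ok (2 * 7) EX RL ⟨2 :: [6, 7, 2, 6, 7, 2, 6, 7, 2, 6, 7, 2, 6, 7], [], 24, false⟩) (lall (memL L) [6, 7, 2, 6, 7, 2, 6, 7, 2, 6, 7, 2, 6, 7]) = true := by decide +kernel

theorem rot2_12 : T.rot 2 [1, 6, 3, 2, 1, 6, 3, 2, 1, 6, 3, 2, 1, 6, 3, 2, 1, 6, 3] (sel (ones 22880) ip2 12) = true := by decide +kernel

theorem rot2_12r : band (Rule.ok (2 * 7) EX RL ⟨2 :: [1, 6, 3, 2, 1, 6, 3, 2, 1, 6, 3, 2, 1, 6, 3, 2, 1, 6, 3], [0, 2], 23, true⟩) (lall (memL L) [1, 6, 3, 2, 1, 6, 3, 2, 1, 6, 3, 2, 1, 6, 3, 2, 1, 6, 3]) = true := by decide +kernel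

theorem rot2_13 : T.rot 2 [3, 6, 1, 2, 3, 6, 1, 2, 3, 6, 1, 2, 3, 6, 1, 2, 3, 6, 1] (sel (ones 22880) ip2 13) = true := by decide +kernel

theorem rot2_13r : band (Rule.ok (2 * 7) EX RL ⟨2 :: [3, 6, 1, 2, 3, 6, 1, 2, 3, 6, 1, 2, 3, 6, 1, 2, 3, 6, 1], [0], 23, false⟩) (lall (memL L) [3, 6, 1, 2, 3, 6, 1, 2, 3, 6, 1, 2, 3, 6, 1, 2, 3, 6, 1]) = true := by decide +kernel

theorem cov2 : T.cover 2 [(sel (ones 22880) ip2 1), (sel (ones 22880) ip2 2), (sel (ones 22880) ip2 3), (sel (ones 22880) ip2 4), (sel (ones 22880) ip2 5), (sel (ones 22880) ip2 6), (sel (ones 22880) ip2 7), (sel (ones 22880) ip2 8), (sel (ones 22880) ip2 9), (sel (ones 22880) ip2 10), (sel (ones 22880) ip2 11), (sel (ones 22880) ip2 12), (sel (ones 22880) ip2 13), 1] = true := by decide +kernel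

theorem tl2 : T.treeLt 15 2 = true := by decide +kernel

theorem rot3_1 : T.rot 3 [3] (sel (ones 22880) ip3 1) = true := by decide +kernel

theorem rot3_1r : band (Rule.ok (2 * 7) EX RL ⟨3 :: [3], [], 26, false⟩) (lall (memL L) [3]) = true := by decide +kernel

theorem rot3_2 : T.rot 3 [1, 3, 1] (sel (ones 22880) ip3 2) = true := by decide +kernel

theorem rot3_2r : band (Rule.ok (2 * 7) EX RL ⟨3 :: [1, 3, 1], [], 1, true⟩) (lall (memL L) [1, 3, 1]) = true := by decide +kernel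

theorem rot3_3 : T.rot 3 [5, 3, 5] (sel (ones 22880) ip3 3) = true := by decide +kernel

theorem rot3_3r : band (Rule.ok (2 * 7) EX RL ⟨3 :: [5, 3, 5], [], 12, false⟩) (lall (memL L) [5, 3, 5]) = true := by decide +kernel

theorem rot3_4 : T.rot 3 [6, 3, 6] (sel (ones 22880) ip3 4) = true := by decide +kernel

theorem rot3_4r : band (Rule.ok (2 * 7) EX RL ⟨3 :: [6, 3, 6], [], 13, false⟩) (lall (memL L) [6, 3, 6]) = true := by decide +kernel

theorem rot3_5 : T.rot 3 [7, 3, 7] (sel (ones 22880) ip3 5) = true := by decide +kernel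

theorem rot3_5r : band (Rule.ok (2 * 7) EX RL ⟨3 :: [7, 3, 7], [], 14, false⟩) (lall (memL L) [7, 3, 7]) = true := by decide +kernel

theorem rot3_6 : T.rot 3 [2, 3, 2, 3, 2] (sel (ones 22880) ip3 6) = true := by decide +kernel

theorem rot3_6r : band (Rule.ok (2 * 7) EX RL ⟨3 :: [2, 3, 2, 3, 2], [], 6, true⟩) (lall (memL L) [2, 3, 2, 3, 2]) = true := by decide +kernel

theorem rot3_7 : T.rot 3 [4, 3, 2, 9, 4] (sel (ones 22880) ip3 7) = true := by decide +kernel

theorem rot3_7r : band (Rule.ok (2 * 7) EX RL ⟨3 :: [4, 3, 2, 9, 4], [], 26, false⟩) (lall (memL L) [4, 3, 2, 9, 4]) = true := by decide +kernel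

theorem rot3_8 : T.rot 3 [2, 9, 4, 3, 4] (sel (ones 22880) ip3 8) = true := by decide +kernel

theorem rot3_8r : band (Rule.ok (2 * 7) EX RL ⟨3 :: [2, 9, 4, 3, 4], [], 26, false⟩) (lall (memL L) [2, 9, 4, 3, 4]) = true := by decide +kernel

theorem rot3_9 : T.rot 3 [4, 3, 4, 8, 2] (sel (ones 22880) ip3 9) = true := by decide +kernel

theorem rot3_9r : band (Rule.ok (2 * 7) EX RL ⟨3 :: [4, 3, 4, 8, 2], [], 26, false⟩) (lall (memL L) [4, 3, 4, 8, 2]) = true := by decide +kernel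

theorem rot3_10 : T.rot 3 [4, 8, 2, 3, 4] (sel (ones 22880) ip3 10) = true := by decide +kernel

theorem rot3_10r : band (Rule.ok (2 * 7) EX RL ⟨3 :: [4, 8, 2, 3, 4], [], 26, false⟩) (lall (memL L) [4, 8, 2, 3, 4]) = true := by decide +kernel

theorem rot3_11 : T.rot 3 [4, 3, 4, 3, 4, 3, 4, 1] (sel (ones 22880) ip3 11) = true := by decide +kernel

theorem rot3_11r : band (Rule.ok (2 * 7) EX RL ⟨3 :: [4, 3, 4, 3, 4, 3, 4, 1], [], 21, true⟩) (lall (memL L) [4, 3, 4, 3, 4, 3, 4, 1]) = true := by decide +kernel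

theorem rot3_12 : T.rot 3 [4, 3, 4, 3, 4, 1, 3, 4] (sel (ones 22880) ip3 12) = true := by decide +kernel

theorem rot3_12r : band (Rule.ok (2 * 7) EX RL ⟨3 :: [4, 3, 4, 3, 4, 1, 3, 4], [4, 6], 21, true⟩) (lall (memL L) [4, 3, 4, 3, 4, 1, 3, 4]) = true := by decide +kernel

theorem rot3_13 : T.rot 3 [4, 3, 4, 1, 3, 4, 3, 4] (sel (ones 22880) ip3 13) = true := by decide +kernel

theorem rot3_13r : band (Rule.ok (2 * 7) EX RL ⟨3 :: [4, 3, 4, 1, 3, 4, 3, 4], [4, 6, 4, 6], 21, true⟩) (lall (memL L) [4, 3, 4, 1, 3, 4, 3, 4]) = true := by decide +kernel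

theorem rot3_14 : T.rot 3 [4, 1, 3, 4, 3, 4, 3, 4] (sel (ones 22880) ip3 14) = true := by decide +kernel

theorem rot3_14r : band (Rule.ok (2 * 7) EX RL ⟨3 :: [4, 1, 3, 4, 3, 4, 3, 4], [0, 6, 4], 21, true⟩) (lall (memL L) [4, 1, 3, 4, 3, 4, 3, 4]) = true := by decide +kernel

theorem rot3_15 : T.rot 3 [4, 3, 4, 3, 4, 3, 1, 4] (sel (ones 22880) ip3 15) = true := by decide +kernel

theorem rot3_15r : band (Rule.ok (2 * 7) EX RL ⟨3 :: [4, 3, 4, 3, 4, 3, 1, 4], [0, 6], 21, false⟩) (lall (memL L) [4, 3, 4, 3, 4, 3, 1, 4]) = true := by decide +kernel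

theorem rot3_16 : T.rot 3 [4, 3, 4, 3, 1, 4, 3, 4] (sel (ones 22880) ip3 16) = true := by decide +kernel

theorem rot3_16r : band (Rule.ok (2 * 7) EX RL ⟨3 :: [4, 3, 4, 3, 1, 4, 3, 4], [0, 6, 4, 6], 21, false⟩) (lall (memL L) [4, 3, 4, 3, 1, 4, 3, 4]) = true := by decide +kernel

theorem rot3_17 : T.rot 3 [4, 3, 1, 4, 3, 4, 3, 4] (sel (ones 22880) ip3 17) = true := by decide +kernel

theorem rot3_17r : band (Rule.ok (2 * 7) EX RL ⟨3 :: [4, 3, 1, 4, 3, 4, 3, 4], [4, 6, 4], 21, false⟩) (lall (memL L) [4, 3, 1, 4, 3, 4, 3, 4]) = true := by decide +kernel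

theorem rot3_18 : T.rot 3 [1, 4, 3, 4, 3, 4, 3, 4] (sel (ones 22880) ip3 18) = true := by decide +kernel

theorem rot3_18r : band (Rule.ok (2 * 7) EX RL ⟨3 :: [1, 4, 3, 4, 3, 4, 3, 4], [4], 21, false⟩) (lall (memL L) [1, 4, 3, 4, 3, 4, 3, 4]) = true := by decide +kernel

theorem rot3_19 : T.rot 3 [4, 3, 4, 3, 4, 3, 4, 3, 4, 3, 4, 3, 4, 3, 4] (sel (ones 22880) ip3 19) = true := by decide +kernel

theorem rot3_19r : band (Rule.ok (2 * 7) EX RL ⟨3 :: [4, 3, 4, 3, 4, 3, 4, 3, 4, 3, 4, 3, 4, 3, 4], [], 11, false⟩) (lall (memL L) [4, 3, 4, 3, 4, 3, 4, 3, 4, 3, 4, 3, 4, 3, 4]) = true := by decide +kernel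

theorem rot3_20 : T.rot 3 [2, 1, 6, 3, 2, 1, 6, 3, 2, 1, 6, 3, 2, 1, 6, 3, 2, 1, 6] (sel (ones 22880) ip3 20) = true := by decide +kernel

theorem rot3_20r : band (Rule.ok (2 * 7) EX RL ⟨3 :: [2, 1, 6, 3, 2, 1, 6, 3, 2, 1, 6, 3, 2, 1, 6, 3, 2, 1, 6], [10], 23, true⟩) (lall (memL L) [2, 1, 6, 3, 2, 1, 6, 3, 2, 1, 6, 3, 2, 1, 6, 3, 2, 1, 6]) = true := by decide +kernel

theorem rot3_21 : T.rot 3 [6, 1, 2, 3, 6, 1, 2, 3, 6, 1, 2, 3, 6, 1, 2, 3, 6, 1, 2] (sel (ones 22880) ip3 21) = true := by decide +kernel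

theorem rot3_21r : band (Rule.ok (2 * 7) EX RL ⟨3 :: [6, 1, 2, 3, 6, 1, 2, 3, 6, 1, 2, 3, 6, 1, 2, 3, 6, 1, 2], [10, 4], 23, false⟩) (lall (memL L) [6, 1, 2, 3, 6, 1, 2, 3, 6, 1, 2, 3, 6, 1, 2, 3, 6, 1, 2]) = true := by decide +kernel

theorem ep0a : T.treePath [5, 4, 3, 2, 1, 2] (Nat.shiftLeft 1 11) 1 = true := by decide +kernel

theorem ep0b : T.treePath [5, 4, 3, 2, 1, 2, 1] (Nat.shiftLeft 1 21) 1 = true := by decide +kernel

theorem ep0c : band (lall (fun z => Nat.ble z 255) ([5, 4, 3, 2, 1, 2] ++ 3 :: [1, 2, 1, 2, 3, 4, 5])) (concl F IV 1020 0x80000c0000a00007000058000440003a0058e000080000280000c00004000010000000e (encA ([5, 4, 3, 2, 1, 2] ++ 3 :: [1, 2, 1, 2, 3, 4, 5]) 0)) = true := by decide +kernel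

theorem ep0d : band (Rule.ok (2 * 7) EX [] ⟨lapp [5, 4, 3, 2, 1, 2, 1] [1, 2, 1, 2, 3, 4, 5], [], 0, false⟩) (band (lall (memL L) [5, 4, 3, 2, 1, 2]) (lall (memL L) [5, 4, 3, 2, 1, 2, 1])) = true := by decide +kernel

theorem cov3 : T.cover 3 [(sel (ones 22880) ip3 1), (sel (ones 22880) ip3 2), (sel (ones 22880) ip3 3), (sel (ones 22880) ip3 4), (sel (ones 22880) ip3 5), (sel (ones 22880) ip3 6), (sel (ones 22880) ip3 7), (sel (ones 22880) ip3 8), (sel (ones 22880) ip3 9), (sel (ones 22880) ip3 10), (sel (ones 22880) ip3 11), (sel (ones 22880) ip3 12), (sel (ones 22880) ip3 13), (sel (ones 22880) ip3 14), (sel (ones 22880) ip3 15), (sel (ones 22880) ip3 16), (sel (ones 22880) ip3 17), (sel (ones 22880) ip3 18), (sel (ones 22880) ip3 19), (sel (ones 22880) ip3 20), (sel (ones 22880) ip3 21), 1, (Nat.shiftLeft 1 11)] = true := by decide +kernel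

theorem tl3 : T.treeLt 15 3 = true := by decide +kernel

theorem rot4_1 : T.rot 4 [4] (sel (ones 22880) ip4 1) = true := by decide +kernel

theorem rot4_1r : band (Rule.ok (2 * 7) EX RL ⟨4 :: [4], [], 26, false⟩) (lall (memL L) [4]) = true := by decide +kernel

theorem rot4_2 : T.rot 4 [1, 4, 1] (sel (ones 22880) ip4 2) = true := by decide +kernel

theorem rot4_2r : band (Rule.ok (2 * 7) EX RL ⟨4 :: [1, 4, 1], [], 2, true⟩) (lall (memL L) [1, 4, 1]) = true := by decide +kernel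

theorem rot4_3 : T.rot 4 [2, 4, 2] (sel (ones 22880) ip4 3) = true := by decide +kernel

theorem rot4_3r : band (Rule.ok (2 * 7) EX RL ⟨4 :: [2, 4, 2], [], 7, true⟩) (lall (memL L) [2, 4, 2]) = true := by decide +kernel

theorem rot4_4 : T.rot 4 [6, 4, 6] (sel (ones 22880) ip4 4) = true := by decide +kernel

theorem rot4_4r : band (Rule.ok (2 * 7) EX RL ⟨4 :: [6, 4, 6], [], 16, false⟩) (lall (memL L) [6, 4, 6]) = true := by decide +kernel

theorem rot4_5 : T.rot 4 [7, 4, 7] (sel (ones 22880) ip4 5) = true := by decide +kernel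

theorem rot4_5r : band (Rule.ok (2 * 7) EX RL ⟨4 :: [7, 4, 7], [], 17, false⟩) (lall (memL L) [7, 4, 7]) = true := by decide +kernel

theorem rot4_6 : T.rot 4 [5, 4, 5, 4, 5] (sel (ones 22880) ip4 6) = true := by decide +kernel

theorem rot4_6r : band (Rule.ok (2 * 7) EX RL ⟨4 :: [5, 4, 5, 4, 5], [], 15, false⟩) (lall (memL L) [5, 4, 5, 4, 5]) = true := by decide +kernel

theorem rot4_7 : T.rot 4 [3, 4, 3, 2, 9] (sel (ones 22880) ip4 7) = true := by decide +kernel

theorem rot4_7r : band (Rule.ok (2 * 7) EX RL ⟨4 :: [3, 4, 3, 2, 9], [], 26, false⟩) (lall (memL L) [3, 4, 3, 2, 9]) = true := by decide +kernel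

theorem rot4_8 : T.rot 4 [3, 2, 9, 4, 3] (sel (ones 22880) ip4 8) = true := by decide +kernel

theorem rot4_8r : band (Rule.ok (2 * 7) EX RL ⟨4 :: [3, 2, 9, 4, 3], [], 26, false⟩) (lall (memL L) [3, 2, 9, 4, 3]) = true := by decide +kernel

theorem rot4_9 : T.rot 4 [3, 4, 8, 2, 3] (sel (ones 22880) ip4 9) = true := by decide +kernel

theorem rot4_9r : band (Rule.ok (2 * 7) EX RL ⟨4 :: [3, 4, 8, 2, 3], [], 26, false⟩) (lall (memL L) [3, 4, 8, 2, 3]) = true := by decide +kernel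

theorem rot4_10 : T.rot 4 [8, 2, 3, 4, 3] (sel (ones 22880) ip4 10) = true := by decide +kernel

theorem rot4_10r : band (Rule.ok (2 * 7) EX RL ⟨4 :: [8, 2, 3, 4, 3], [], 26, false⟩) (lall (memL L) [8, 2, 3, 4, 3]) = true := by decide +kernel

theorem rot4_11 : T.rot 4 [3, 4, 3, 4, 3, 4, 1, 3] (sel (ones 22880) ip4 11) = true := by decide +kernel

theorem rot4_11r : band (Rule.ok (2 * 7) EX RL ⟨4 :: [3, 4, 3, 4, 3, 4, 1, 3], [4], 21, true⟩) (lall (memL L) [3, 4, 3, 4, 3, 4, 1, 3]) = true := by decide +kernel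

theorem rot4_12 : T.rot 4 [3, 4, 3, 4, 1, 3, 4, 3] (sel (ones 22880) ip4 12) = true := by decide +kernel

theorem rot4_12r : band (Rule.ok (2 * 7) EX RL ⟨4 :: [3, 4, 3, 4, 1, 3, 4, 3], [4, 6, 4], 21, true⟩) (lall (memL L) [3, 4, 3, 4, 1, 3, 4, 3]) = true := by decide +kernel

theorem rot4_13 : T.rot 4 [3, 4, 1, 3, 4, 3, 4, 3] (sel (ones 22880) ip4 13) = true := by decide +kernel

theorem rot4_13r : band (Rule.ok (2 * 7) EX RL ⟨4 :: [3, 4, 1, 3, 4, 3, 4, 3], [0, 6, 4, 6], 21, true⟩) (lall (memL L) [3, 4, 1, 3, 4, 3, 4, 3]) = true := by decide +kernel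

theorem rot4_14 : T.rot 4 [1, 3, 4, 3, 4, 3, 4, 3] (sel (ones 22880) ip4 14) = true := by decide +kernel

theorem rot4_14r : band (Rule.ok (2 * 7) EX RL ⟨4 :: [1, 3, 4, 3, 4, 3, 4, 3], [0, 6], 21, true⟩) (lall (memL L) [1, 3, 4, 3, 4, 3, 4, 3]) = true := by decide +kernel

theorem rot4_15 : T.rot 4 [3, 4, 3, 4, 3, 4, 3, 1] (sel (ones 22880) ip4 15) = true := by decide +kernel

theorem rot4_15r : band (Rule.ok (2 * 7) EX RL ⟨4 :: [3, 4, 3, 4, 3, 4, 3, 1], [0], 21, false⟩) (lall (memL L) [3, 4, 3, 4, 3, 4, 3, 1]) = true := by decide +kernel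

theorem rot4_16 : T.rot 4 [3, 4, 3, 4, 3, 1, 4, 3] (sel (ones 22880) ip4 16) = true := by decide +kernel

theorem rot4_16r : band (Rule.ok (2 * 7) EX RL ⟨4 :: [3, 4, 3, 4, 3, 1, 4, 3], [0, 6, 4], 21, false⟩) (lall (memL L) [3, 4, 3, 4, 3, 1, 4, 3]) = true := by decide +kernel

theorem rot4_17 : T.rot 4 [3, 4, 3, 1, 4, 3, 4, 3] (sel (ones 22880) ip4 17) = true := by decide +kernel

theorem rot4_17r : band (Rule.ok (2 * 7) EX RL ⟨4 :: [3, 4, 3, 1, 4, 3, 4, 3], [4, 6, 4, 6], 21, false⟩) (lall (memL L) [3, 4, 3, 1, 4, 3, 4, 3]) = true := by decide +kernel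

theorem rot4_18 : T.rot 4 [3, 1, 4, 3, 4, 3, 4, 3] (sel (ones 22880) ip4 18) = true := by decide +kernel

theorem rot4_18r : band (Rule.ok (2 * 7) EX RL ⟨4 :: [3, 1, 4, 3, 4, 3, 4, 3], [4, 6], 21, false⟩) (lall (memL L) [3, 1, 4, 3, 4, 3, 4, 3]) = true := by decide +kernel

theorem rot4_19 : T.rot 4 [3, 4, 3, 4, 3, 4, 3, 4, 3, 4, 3, 4, 3, 4, 3] (sel (ones 22880) ip4 19) = true := by decide +kernel

theorem rot4_19r : band (Rule.ok (2 * 7) EX RL ⟨4 :: [3, 4, 3, 4, 3, 4, 3, 4, 3, 4, 3, 4, 3, 4, 3], [], 11, true⟩) (lall (memL L) [3, 4, 3, 4, 3, 4, 3, 4, 3, 4, 3, 4, 3, 4, 3]) = true := by decide +kernel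

theorem cov4 : T.cover 4 [(sel (ones 22880) ip4 1), (sel (ones 22880) ip4 2), (sel (ones 22880) ip4 3), (sel (ones 22880) ip4 4), (sel (ones 22880) ip4 5), (sel (ones 22880) ip4 6), (sel (ones 22880) ip4 7), (sel (ones 22880) ip4 8), (sel (ones 22880) ip4 9), (sel (ones 22880) ip4 10), (sel (ones 22880) ip4 11), (sel (ones 22880) ip4 12), (sel (ones 22880) ip4 13), (sel (ones 22880) ip4 14), (sel (ones 22880) ip4 15), (sel (ones 22880) ip4 16), (sel (ones 22880) ip4 17), (sel (ones 22880) ip4 18), (sel (ones 22880) ip4 19), 1] = true := by decide +kernel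

theorem tl4 : T.treeLt 15 4 = true := by decide +kernel

theorem rot5_1 : T.rot 5 [5] (sel (ones 22880) ip5 1) = true := by decide +kernel

theorem rot5_1r : band (Rule.ok (2 * 7) EX RL ⟨5 :: [5], [], 26, false⟩) (lall (memL L) [5]) = true := by decide +kernel

theorem rot5_2 : T.rot 5 [1, 5, 1] (sel (ones 22880) ip5 2) = true := by decide +kernel

theorem rot5_2r : band (Rule.ok (2 * 7) EX RL ⟨5 :: [1, 5, 1], [], 3, true⟩) (lall (memL L) [1, 5, 1]) = true := by decide +kernel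

theorem rot5_3 : T.rot 5 [2, 5, 2] (sel (ones 22880) ip5 3) = true := by decide +kernel

theorem rot5_3r : band (Rule.ok (2 * 7) EX RL ⟨5 :: [2, 5, 2], [], 8, true⟩) (lall (memL L) [2, 5, 2]) = true := by decide +kernel

theorem rot5_4 : T.rot 5 [3, 5, 3] (sel (ones 22880) ip5 4) = true := by decide +kernel

theorem rot5_4r : band (Rule.ok (2 * 7) EX RL ⟨5 :: [3, 5, 3], [], 12, true⟩) (lall (memL L) [3, 5, 3]) = true := by decide +kernel

theorem rot5_5 : T.rot 5 [6, 5, 6] (sel (ones 22880) ip5 5) = true := by decide +kernel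

theorem rot5_5r : band (Rule.ok (2 * 7) EX RL ⟨5 :: [6, 5, 6], [], 18, false⟩) (lall (memL L) [6, 5, 6]) = true := by decide +kernel

theorem rot5_6 : T.rot 5 [7, 5, 7] (sel (ones 22880) ip5 6) = true := by decide +kernel

theorem rot5_6r : band (Rule.ok (2 * 7) EX RL ⟨5 :: [7, 5, 7], [], 19, false⟩) (lall (memL L) [7, 5, 7]) = true := by decide +kernel

theorem rot5_7 : T.rot 5 [4, 5, 4, 5, 4] (sel (ones 22880) ip5 7) = true := by decide +kernel

theorem rot5_7r : band (Rule.ok (2 * 7) EX RL ⟨5 :: [4, 5, 4, 5, 4], [], 15, true⟩) (lall (memL L) [4, 5, 4, 5, 4]) = true := by decide +kernel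

theorem rot5_8 : T.rot 5 [8, 8, 8, 8, 8, 5, 8, 8, 8, 8, 8, 5, 8, 8, 8, 8, 8] (sel (ones 22880) ip5 8) = true := by decide +kernel

theorem rot5_8r : band (Rule.ok (2 * 7) EX RL ⟨5 :: [8, 8, 8, 8, 8, 5, 8, 8, 8, 8, 8, 5, 8, 8, 8, 8, 8], [], 25, true⟩) (lall (memL L) [8, 8, 8, 8, 8, 5, 8, 8, 8, 8, 8, 5, 8, 8, 8, 8, 8]) = true := by decide +kernel

theorem rot5_9 : T.rot 5 [9, 9, 9, 9, 9, 5, 9, 9, 9, 9, 9, 5, 9, 9, 9, 9, 9] (sel (ones 22880) ip5 9) = true := by decide +kernel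

theorem rot5_9r : band (Rule.ok (2 * 7) EX RL ⟨5 :: [9, 9, 9, 9, 9, 5, 9, 9, 9, 9, 9, 5, 9, 9, 9, 9, 9], [8], 25, false⟩) (lall (memL L) [9, 9, 9, 9, 9, 5, 9, 9, 9, 9, 9, 5, 9, 9, 9, 9, 9]) = true := by decide +kernel

theorem cov5 : T.cover 5 [(sel (ones 22880) ip5 1), (sel (ones 22880) ip5 2), (sel (ones 22880) ip5 3), (sel (ones 22880) ip5 4), (sel (ones 22880) ip5 5), (sel (ones 22880) ip5 6), (sel (ones 22880) ip5 7), (sel (ones 22880) ip5 8), (sel (ones 22880) ip5 9)] = true := by decide +kernel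

theorem tl5 : T.treeLt 15 5 = true := by decide +kernel

theorem rot6_1 : T.rot 6 [6] (sel (ones 22880) ip6 1) = true := by decide +kernel

theorem rot6_1r : band (Rule.ok (2 * 7) EX RL ⟨6 :: [6], [], 26, false⟩) (lall (memL L) [6]) = true := by decide +kernel

theorem rot6_2 : T.rot 6 [1, 6, 1] (sel (ones 22880) ip6 2) = true := by decide +kernel

theorem rot6_2r : band (Rule.ok (2 * 7) EX RL ⟨6 :: [1, 6, 1], [], 4, true⟩) (lall (memL L) [1, 6, 1]) = true := by decide +kernel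

theorem rot6_3 : T.rot 6 [3, 6, 3] (sel (ones 22880) ip6 3) = true := by decide +kernel

theorem rot6_3r : band (Rule.ok (2 * 7) EX RL ⟨6 :: [3, 6, 3], [], 13, true⟩) (lall (memL L) [3, 6, 3]) = true := by decide +kernel

theorem rot6_4 : T.rot 6 [4, 6, 4] (sel (ones 22880) ip6 4) = true := by decide +kernel

theorem rot6_4r : band (Rule.ok (2 * 7) EX RL ⟨6 :: [4, 6, 4], [], 16, true⟩) (lall (memL L) [4, 6, 4]) = true := by decide +kernel

theorem rot6_5 : T.rot 6 [5, 6, 5] (sel (ones 22880) ip6 5) = true := by decide +kernel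

theorem rot6_5r : band (Rule.ok (2 * 7) EX RL ⟨6 :: [5, 6, 5], [], 18, true⟩) (lall (memL L) [5, 6, 5]) = true := by decide +kernel

theorem rot6_6 : T.rot 6 [7, 6, 7, 1] (sel (ones 22880) ip6 6) = true := by decide +kernel

theorem rot6_6r : band (Rule.ok (2 * 7) EX RL ⟨6 :: [7, 6, 7, 1], [], 22, true⟩) (lall (memL L) [7, 6, 7, 1]) = true := by decide +kernel

theorem rot6_7 : T.rot 6 [7, 1, 6, 7] (sel (ones 22880) ip6 7) = true := by decide +kernel

theorem rot6_7r : band (Rule.ok (2 * 7) EX RL ⟨6 :: [7, 1, 6, 7], [10, 12], 22, true⟩) (lall (memL L) [7, 1, 6, 7]) = true := by decide +kernel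

theorem rot6_8 : T.rot 6 [7, 6, 1, 7] (sel (ones 22880) ip6 8) = true := by decide +kernel

theorem rot6_8r : band (Rule.ok (2 * 7) EX RL ⟨6 :: [7, 6, 1, 7], [0, 12], 22, false⟩) (lall (memL L) [7, 6, 1, 7]) = true := by decide +kernel

theorem rot6_9 : T.rot 6 [1, 7, 6, 7] (sel (ones 22880) ip6 9) = true := by decide +kernel

theorem rot6_9r : band (Rule.ok (2 * 7) EX RL ⟨6 :: [1, 7, 6, 7], [10], 22, false⟩) (lall (memL L) [1, 7, 6, 7]) = true := by decide +kernel

theorem rot6_10 : T.rot 6 [2, 6, 2, 6, 2] (sel (ones 22880) ip6 10) = true := by decide +kernel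

theorem rot6_10r : band (Rule.ok (2 * 7) EX RL ⟨6 :: [2, 6, 2, 6, 2], [], 9, true⟩) (lall (memL L) [2, 6, 2, 6, 2]) = true := by decide +kernel

theorem rot6_11 : T.rot 6 [7, 6, 7, 6, 7, 6, 7] (sel (ones 22880) ip6 11) = true := by decide +kernel

theorem rot6_11r : band (Rule.ok (2 * 7) EX RL ⟨6 :: [7, 6, 7, 6, 7, 6, 7], [], 20, false⟩) (lall (memL L) [7, 6, 7, 6, 7, 6, 7]) = true := by decide +kernel

theorem rot6_12 : T.rot 6 [2, 7, 6, 2, 7, 6, 2, 7, 6, 2, 7, 6, 2, 7] (sel (ones 22880) ip6 12) = true := by decide +kernel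

theorem rot6_12r : band (Rule.ok (2 * 7) EX RL ⟨6 :: [2, 7, 6, 2, 7, 6, 2, 7, 6, 2, 7, 6, 2, 7], [12], 24, true⟩) (lall (memL L) [2, 7, 6, 2, 7, 6, 2, 7, 6, 2, 7, 6, 2, 7]) = true := by decide +kernel

theorem rot6_13 : T.rot 6 [7, 2, 6, 7, 2, 6, 7, 2, 6, 7, 2, 6, 7, 2] (sel (ones 22880) ip6 13) = true := by decide +kernel

theorem rot6_13r : band (Rule.ok (2 * 7) EX RL ⟨6 :: [7, 2, 6, 7, 2, 6, 7, 2, 6, 7, 2, 6, 7, 2], [2], 24, false⟩) (lall (memL L) [7, 2, 6, 7, 2, 6, 7, 2, 6, 7, 2, 6, 7, 2]) = true := by decide +kernel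

theorem rot6_14 : T.rot 6 [3, 2, 1, 6, 3, 2, 1, 6, 3, 2, 1, 6, 3, 2, 1, 6, 3, 2, 1] (sel (ones 22880) ip6 14) = true := by decide +kernel

theorem rot6_14r : band (Rule.ok (2 * 7) EX RL ⟨6 :: [3, 2, 1, 6, 3, 2, 1, 6, 3, 2, 1, 6, 3, 2, 1, 6, 3, 2, 1], [], 23, true⟩) (lall (memL L) [3, 2, 1, 6, 3, 2, 1, 6, 3, 2, 1, 6, 3, 2, 1, 6, 3, 2, 1]) = true := by decide +kernel

theorem rot6_15 : T.rot 6 [1, 2, 3, 6, 1, 2, 3, 6, 1, 2, 3, 6, 1, 2, 3, 6, 1, 2, 3] (sel (ones 22880) ip6 15) = true := by decide +kernel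

theorem rot6_15r : band (Rule.ok (2 * 7) EX RL ⟨6 :: [1, 2, 3, 6, 1, 2, 3, 6, 1, 2, 3, 6, 1, 2, 3, 6, 1, 2, 3], [10], 23, false⟩) (lall (memL L) [1, 2, 3, 6, 1, 2, 3, 6, 1, 2, 3, 6, 1, 2, 3, 6, 1, 2, 3]) = true := by decide +kernel

theorem cov6 : T.cover 6 [(sel (ones 22880) ip6 1), (sel (ones 22880) ip6 2), (sel (ones 22880) ip6 3), (sel (ones 22880) ip6 4), (sel (ones 22880) ip6 5), (sel (ones 22880) ip6 6), (sel (ones 22880) ip6 7), (sel (ones 22880) ip6 8), (sel (ones 22880) ip6 9), (sel (ones 22880) ip6 10), (sel (ones 22880) ip6 11), (sel (ones 22880) ip6 12), (sel (ones 22880) ip6 13), (sel (ones 22880) ip6 14), (sel (ones 22880) ip6 15), 1] = true := by decide +kernel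

theorem tl6 : T.treeLt 15 6 = true := by decide +kernel

theorem rot7_1 : T.rot 7 [7] (sel (ones 22880) ip7 1) = true := by decide +kernel

theorem rot7_1r : band (Rule.ok (2 * 7) EX RL ⟨7 :: [7], [], 26, false⟩) (lall (memL L) [7]) = true := by decide +kernel

theorem rot7_2 : T.rot 7 [1, 7, 1] (sel (ones 22880) ip7 2) = true := by decide +kernel

theorem rot7_2r : band (Rule.ok (2 * 7) EX RL ⟨7 :: [1, 7, 1], [], 5, true⟩) (lall (memL L) [1, 7, 1]) = true := by decide +kernel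

theorem rot7_3 : T.rot 7 [3, 7, 3] (sel (ones 22880) ip7 3) = true := by decide +kernel

theorem rot7_3r : band (Rule.ok (2 * 7) EX RL ⟨7 :: [3, 7, 3], [], 14, true⟩) (lall (memL L) [3, 7, 3]) = true := by decide +kernel

theorem rot7_4 : T.rot 7 [4, 7, 4] (sel (ones 22880) ip7 4) = true := by decide +kernel

theorem rot7_4r : band (Rule.ok (2 * 7) EX RL ⟨7 :: [4, 7, 4], [], 17, true⟩) (lall (memL L) [4, 7, 4]) = true := by decide +kernel

theorem rot7_5 : T.rot 7 [5, 7, 5] (sel (ones 22880) ip7 5) = true := by decide +kernel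

theorem rot7_5r : band (Rule.ok (2 * 7) EX RL ⟨7 :: [5, 7, 5], [], 19, true⟩) (lall (memL L) [5, 7, 5]) = true := by decide +kernel

theorem rot7_6 : T.rot 7 [6, 7, 1, 6] (sel (ones 22880) ip7 6) = true := by decide +kernel

theorem rot7_6r : band (Rule.ok (2 * 7) EX RL ⟨7 :: [6, 7, 1, 6], [10], 22, true⟩) (lall (memL L) [6, 7, 1, 6]) = true := by decide +kernel

theorem rot7_7 : T.rot 7 [1, 6, 7, 6] (sel (ones 22880) ip7 7) = true := by decide +kernel

theorem rot7_7r : band (Rule.ok (2 * 7) EX RL ⟨7 :: [1, 6, 7, 6], [0, 12], 22, true⟩) (lall (memL L) [1, 6, 7, 6]) = true := by decide +kernel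

theorem rot7_8 : T.rot 7 [6, 7, 6, 1] (sel (ones 22880) ip7 8) = true := by decide +kernel

theorem rot7_8r : band (Rule.ok (2 * 7) EX RL ⟨7 :: [6, 7, 6, 1], [0], 22, false⟩) (lall (memL L) [6, 7, 6, 1]) = true := by decide +kernel

theorem rot7_9 : T.rot 7 [6, 1, 7, 6] (sel (ones 22880) ip7 9) = true := by decide +kernel

theorem rot7_9r : band (Rule.ok (2 * 7) EX RL ⟨7 :: [6, 1, 7, 6], [10, 12], 22, false⟩) (lall (memL L) [6, 1, 7, 6]) = true := by decide +kernel

theorem rot7_10 : T.rot 7 [2, 7, 2, 7, 2] (sel (ones 22880) ip7 10) = true := by decide +kernel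

theorem rot7_10r : band (Rule.ok (2 * 7) EX RL ⟨7 :: [2, 7, 2, 7, 2], [], 10, true⟩) (lall (memL L) [2, 7, 2, 7, 2]) = true := by decide +kernel

theorem rot7_11 : T.rot 7 [6, 7, 6, 7, 6, 7, 6] (sel (ones 22880) ip7 11) = true := by decide +kernel

theorem rot7_11r : band (Rule.ok (2 * 7) EX RL ⟨7 :: [6, 7, 6, 7, 6, 7, 6], [], 20, true⟩) (lall (memL L) [6, 7, 6, 7, 6, 7, 6]) = true := by decide +kernel

theorem rot7_12 : T.rot 7 [6, 2, 7, 6, 2, 7, 6, 2, 7, 6, 2, 7, 6, 2] (sel (ones 22880) ip7 12) = true := by decide +kernel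

theorem rot7_12r : band (Rule.ok (2 * 7) EX RL ⟨7 :: [6, 2, 7, 6, 2, 7, 6, 2, 7, 6, 2, 7, 6, 2], [], 24, true⟩) (lall (memL L) [6, 2, 7, 6, 2, 7, 6, 2, 7, 6, 2, 7, 6, 2]) = true := by decide +kernel

theorem rot7_13 : T.rot 7 [2, 6, 7, 2, 6, 7, 2, 6, 7, 2, 6, 7, 2, 6] (sel (ones 22880) ip7 13) = true := by decide +kernel

theorem rot7_13r : band (Rule.ok (2 * 7) EX RL ⟨7 :: [2, 6, 7, 2, 6, 7, 2, 6, 7, 2, 6, 7, 2, 6], [12], 24, false⟩) (lall (memL L) [2, 6, 7, 2, 6, 7, 2, 6, 7, 2, 6, 7, 2, 6]) = true := by decide +kernel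

theorem cov7 : T.cover 7 [(sel (ones 22880) ip7 1), (sel (ones 22880) ip7 2), (sel (ones 22880) ip7 3), (sel (ones 22880) ip7 4), (sel (ones 22880) ip7 5), (sel (ones 22880) ip7 6), (sel (ones 22880) ip7 7), (sel (ones 22880) ip7 8), (sel (ones 22880) ip7 9), (sel (ones 22880) ip7 10), (sel (ones 22880) ip7 11), (sel (ones 22880) ip7 12), (sel (ones 22880) ip7 13), 1] = true := by decide +kernel

theorem tl7 : T.treeLt 15 7 = true := by decide +kernel

theorem rot8_1 : T.rot 8 [2, 3, 4, 3, 4] (sel (ones 22880) ip8 1) = true := by decide +kernel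

theorem rot8_1r : band (Rule.ok (2 * 7) EX RL ⟨8 :: [2, 3, 4, 3, 4], [], 26, false⟩) (lall (memL L) [2, 3, 4, 3, 4]) = true := by decide +kernel

theorem rot8_2 : T.rot 8 [8, 8, 8, 8, 5, 8, 8, 8, 8, 8, 5, 8, 8, 8, 8, 8, 5] (sel (ones 22880) ip8 2) = true := by decide +kernel

theorem rot8_2r : band (Rule.ok (2 * 7) EX RL ⟨8 :: [8, 8, 8, 8, 5, 8, 8, 8, 8, 8, 5, 8, 8, 8, 8, 8, 5], [8], 25, true⟩) (lall (memL L) [8, 8, 8, 8, 5, 8, 8, 8, 8, 8, 5, 8, 8, 8, 8, 8, 5]) = true := by decide +kernel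

theorem rot8_3 : T.rot 8 [8, 8, 8, 5, 8, 8, 8, 8, 8, 5, 8, 8, 8, 8, 8, 5, 8] (sel (ones 22880) ip8 3) = true := by decide +kernel

theorem rot8_3r : band (Rule.ok (2 * 7) EX RL ⟨8 :: [8, 8, 8, 5, 8, 8, 8, 8, 8, 5, 8, 8, 8, 8, 8, 5, 8], [8, 6, 4, 6, 4, 2], 25, true⟩) (lall (memL L) [8, 8, 8, 5, 8, 8, 8, 8, 8, 5, 8, 8, 8, 8, 8, 5, 8]) = true := by decide +kernel

theorem rot8_4 : T.rot 8 [8, 8, 5, 8, 8, 8, 8, 8, 5, 8, 8, 8, 8, 8, 5, 8, 8] (sel (ones 22880) ip8 4) = true := by decide +kernel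

theorem rot8_4r : band (Rule.ok (2 * 7) EX RL ⟨8 :: [8, 8, 5, 8, 8, 8, 8, 8, 5, 8, 8, 8, 8, 8, 5, 8, 8], [8, 6, 4, 6, 4, 2, 6, 4, 6, 4, 2], 25, true⟩) (lall (memL L) [8, 8, 5, 8, 8, 8, 8, 8, 5, 8, 8, 8, 8, 8, 5, 8, 8]) = true := by decide +kernel

theorem rot8_5 : T.rot 8 [8, 5, 8, 8, 8, 8, 8, 5, 8, 8, 8, 8, 8, 5, 8, 8, 8] (sel (ones 22880) ip8 5) = true := by decide +kernel

theorem rot8_5r : band (Rule.ok (2 * 7) EX RL ⟨8 :: [8, 5, 8, 8, 8, 8, 8, 5, 8, 8, 8, 8, 8, 5, 8, 8, 8], [2, 4, 6, 4, 6, 2, 4, 6, 4, 6], 25, true⟩) (lall (memL L) [8, 5, 8, 8, 8, 8, 8, 5, 8, 8, 8, 8, 8, 5, 8, 8, 8]) = true := by decide +kernel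

theorem rot8_6 : T.rot 8 [5, 8, 8, 8, 8, 8, 5, 8, 8, 8, 8, 8, 5, 8, 8, 8, 8] (sel (ones 22880) ip8 6) = true := by decide +kernel

theorem rot8_6r : band (Rule.ok (2 * 7) EX RL ⟨8 :: [5, 8, 8, 8, 8, 8, 5, 8, 8, 8, 8, 8, 5, 8, 8, 8, 8], [2, 4, 6, 4, 6], 25, true⟩) (lall (memL L) [5, 8, 8, 8, 8, 8, 5, 8, 8, 8, 8, 8, 5, 8, 8, 8, 8]) = true := by decide +kernel

theorem cov8 : T.cover 8 [(sel (ones 22880) ip8 1), (sel (ones 22880) ip8 2), (sel (ones 22880) ip8 3), (sel (ones 22880) ip8 4), (sel (ones 22880) ip8 5), (sel (ones 22880) ip8 6)] = true := by decide +kernel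

theorem tl8 : Nat.beq (T.let 8).tt 0 = true := by decide +kernel

theorem rot9_1 : T.rot 9 [4, 3, 4, 3, 2] (sel (ones 22880) ip9 1) = true := by decide +kernel

theorem rot9_1r : band (Rule.ok (2 * 7) EX RL ⟨9 :: [4, 3, 4, 3, 2], [], 26, false⟩) (lall (memL L) [4, 3, 4, 3, 2]) = true := by decide +kernel

theorem rot9_2 : T.rot 9 [9, 9, 9, 9, 5, 9, 9, 9, 9, 9, 5, 9, 9, 9, 9, 9, 5] (sel (ones 22880) ip9 2) = true := by decide +kernel

theorem rot9_2r : band (Rule.ok (2 * 7) EX RL ⟨9 :: [9, 9, 9, 9, 5, 9, 9, 9, 9, 9, 5, 9, 9, 9, 9, 9, 5], [], 25, false⟩) (lall (memL L) [9, 9, 9, 9, 5, 9, 9, 9, 9, 9, 5, 9, 9, 9, 9, 9, 5]) = true := by decide +kernel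

theorem rot9_3 : T.rot 9 [9, 9, 9, 5, 9, 9, 9, 9, 9, 5, 9, 9, 9, 9, 9, 5, 9] (sel (ones 22880) ip9 3) = true := by decide +kernel

theorem rot9_3r : band (Rule.ok (2 * 7) EX RL ⟨9 :: [9, 9, 9, 5, 9, 9, 9, 9, 9, 5, 9, 9, 9, 9, 9, 5, 9], [2, 4, 6, 4, 6], 25, false⟩) (lall (memL L) [9, 9, 9, 5, 9, 9, 9, 9, 9, 5, 9, 9, 9, 9, 9, 5, 9]) = true := by decide +kernel

theorem rot9_4 : T.rot 9 [9, 9, 5, 9, 9, 9, 9, 9, 5, 9, 9, 9, 9, 9, 5, 9, 9] (sel (ones 22880) ip9 4) = true := by decide +kernel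

theorem rot9_4r : band (Rule.ok (2 * 7) EX RL ⟨9 :: [9, 9, 5, 9, 9, 9, 9, 9, 5, 9, 9, 9, 9, 9, 5, 9, 9], [2, 4, 6, 4, 6, 2, 4, 6, 4, 6], 25, false⟩) (lall (memL L) [9, 9, 5, 9, 9, 9, 9, 9, 5, 9, 9, 9, 9, 9, 5, 9, 9]) = true := by decide +kernel

theorem rot9_5 : T.rot 9 [9, 5, 9, 9, 9, 9, 9, 5, 9, 9, 9, 9, 9, 5, 9, 9, 9] (sel (ones 22880) ip9 5) = true := by decide +kernel

theorem rot9_5r : band (Rule.ok (2 * 7) EX RL ⟨9 :: [9, 5, 9, 9, 9, 9, 9, 5, 9, 9, 9, 9, 9, 5, 9, 9, 9], [8, 6, 4, 6, 4, 2, 6, 4, 6, 4, 2], 25, false⟩) (lall (memL L) [9, 5, 9, 9, 9, 9, 9, 5, 9, 9, 9, 9, 9, 5, 9, 9, 9]) = true := by decide +kernel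

theorem rot9_6 : T.rot 9 [5, 9, 9, 9, 9, 9, 5, 9, 9, 9, 9, 9, 5, 9, 9, 9, 9] (sel (ones 22880) ip9 6) = true := by decide +kernel

theorem rot9_6r : band (Rule.ok (2 * 7) EX RL ⟨9 :: [5, 9, 9, 9, 9, 9, 5, 9, 9, 9, 9, 9, 5, 9, 9, 9, 9], [8, 6, 4, 6, 4, 2], 25, false⟩) (lall (memL L) [5, 9, 9, 9, 9, 9, 5, 9, 9, 9, 9, 9, 5, 9, 9, 9, 9]) = true := by decide +kernel

theorem cov9 : T.cover 9 [(sel (ones 22880) ip9 1), (sel (ones 22880) ip9 2), (sel (ones 22880) ip9 3), (sel (ones 22880) ip9 4), (sel (ones 22880) ip9 5), (sel (ones 22880) ip9 6)] = true := by decide +kernel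

theorem tl9 : Nat.beq (T.let 9).tt 0 = true := by decide +kernel

end Cfsg.Agent.Spor.Suz22880
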