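import Cfsg.Agent.Spor.SuzG
import Cfsg.Agent.Spor.Prim
import Cfsg.Agent.Spor.Suz22880.Main

set_option autoImplicit false
set_option maxRecDepth 100000

namespace Cfsg.Agent.Spor.Suz22880

open Cfsg.Spor Cfsg.Spor.Suz

theorem hom : ∃ φ : Suz →* Equiv.Perm ℕ, ∀ j < 7, φ (SuzG.f j) = fP j := SuzG.hom cert.pres

noncomputable def φ : Suz →* Equiv.Perm ℕ := hom.choose

theorem hφ : ∀ j < 7, φ (SuzG.f j) = fP j := hom.choose_spec

abbrev H : Subgroup Suz := wsub 7 SuzG.f BW

theorem act : CosetAct H φ 22880 := cert.act _ _ SuzG.pres φ hφ SuzG.top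

theorem Heq : (Subgroup.closure ({a, b, c, d, f, g} : Set (FreeGroup Gen))).map (PresentedGroup.mk SuzG.rels) = H :=
  SuzG.coded.map_closure (ws := [a, b, c, d, f, g]) (by simp) (by decide +kernel) (by decide +kernel)

theorem map_H : H.map φ = wsub 7 fP BW := wsub_map hφ BW

theorem range_φ : φ.range = gsub 7 fP := range_eq_gsub hφ SuzG.top

end Cfsg.Agent.Spor.Suz22880
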